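import Groth.Agent.H6DefoTriv
import Groth.Agent.S17439
import Groth.Agent.DCohLib.PerfLocFree
import Groth.Agent.BCLib.TensorFun

/-!
# The sequence `0 → E → D → E → 0` of a first-order deformation, tensored with a receptacle

Linear maps `D ⟶ D ⊗ Ω'` killed by both ends factor through `π` and `ι ⊗ 1`.
-/

set_option autoImplicit false
set_option backward.isDefEq.respectTransparency false
set_option linter.style.haveILetI false

universe u

open CategoryTheory CategoryTheory.Limits AlgebraicGeometry TopologicalSpace Opposite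
open Groth.Agent Groth.Agent.PullbackMod Groth.Agent.DCohLib
open scoped TensorProduct

noncomputable section

namespace Groth.Agent.DefoConnLib

section General

variable {X : Scheme.{u}}

/-- A map of the underlying abelian sheaves commuting with the functions is a map of modules. -/
def ofLin {M N : X.Modules} (d : Coh.toAb M ⟶ Coh.toAb N)
    (h : ∀ (U : X.Opens) (r : Γ(X, U)) (e : M.val.obj (op U)),
      ConnSh.secApp d U (r • e) = r • ConnSh.secApp d U e) : M ⟶ N :=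
  SheafOfModules.Hom.mk (PresheafOfModules.homMk (M₁ := M.val) (M₂ := N.val) d.hom
    fun U r e => h U.unop r e)

theorem map_ofLin {M N : X.Modules} (d : Coh.toAb M ⟶ Coh.toAb N)
    (h : ∀ (U : X.Opens) (r : Γ(X, U)) (e : M.val.obj (op U)),
      ConnSh.secApp d U (r • e) = r • ConnSh.secApp d U e) :
    (SheafOfModules.toSheaf X.ringCatSheaf).map (ofLin d h) = d := rfl

theorem ext_sec {M N : X.Modules} (φ ψ : M ⟶ N) (h : ∀ (U : X.Opens) (e : M.val.obj (op U)),
    φ.app U e = ψ.app U e) : φ = ψ :=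
  Scheme.Modules.hom_ext _ _ fun U => AddCommGrpCat.hom_ext (AddMonoidHom.ext (h U))

theorem toAb_ext {M N : X.Modules} (φ ψ : Coh.toAb M ⟶ Coh.toAb N)
    (h : ∀ (U : X.Opens) (e : M.val.obj (op U)), ConnSh.secApp φ U e = ConnSh.secApp ψ U e) : φ = ψ := by
  ext U x
  exact h U.unop x

theorem tm_zero {M N : X.Modules} (Ω : X.Modules) :
    KoszTw.tensorMap (0 : M ⟶ N) (𝟙 Ω) = 0 := by
  rw [← KoszTw.tensorRightMod_map, Functor.map_zero]

theorem tm_add {M N : X.Modules} (Ω : X.Modules) (f g : M ⟶ N) :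
    KoszTw.tensorMap (f + g) (𝟙 Ω) = KoszTw.tensorMap f (𝟙 Ω) + KoszTw.tensorMap g (𝟙 Ω) := by
  rw [← KoszTw.tensorRightMod_map, ← KoszTw.tensorRightMod_map, ← KoszTw.tensorRightMod_map, Functor.map_add]

theorem tm_comp {M N P : X.Modules} (Ω : X.Modules) (f : M ⟶ N) (g : N ⟶ P) :
    KoszTw.tensorMap (f ≫ g) (𝟙 Ω) = KoszTw.tensorMap f (𝟙 Ω) ≫ KoszTw.tensorMap g (𝟙 Ω) := by
  rw [← KoszTw.tensorMap_comp, Category.id_comp]

end General

variable {k : Type u} [Field k] {X : Scheme.{u}} [X.Over (Spec (CommRingCat.of k))] {E : X.Modules}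
  (D : DefoSh.Defo E (ArtFun.Art.dual k k)) (Ω : X.Modules)

theorem eq_inc {ι : E ⟶ D.sheaf} (hι : D.π ≫ ι = D.act (DualNumber.eps : DualNumber k)) :
    ι = H6DefoTriv.inc D :=
  (cancel_epi D.π).1 (hι.trans (H6DefoTriv.π_inc D).symm)

theorem mono_tensor_inc (hE : FlatMod.IsFinLocFree E) :
    Mono (KoszTw.tensorMap (H6DefoTriv.inc D) (𝟙 Ω)) := by
  rw [← KoszTw.tensorRightMod_map]
  refine (mono_iff_stalk _).2 fun x => ?_
  obtain ⟨hfree, -⟩ := free_finite_stalk_of_flf hE x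
  haveI := hfree
  let R := X.presheaf.stalk x
  let p : D.sheaf.presheaf.stalk x →ₗ[R] E.presheaf.stalk x := stalkLin D.π x
  let i : E.presheaf.stalk x →ₗ[R] D.sheaf.presheaf.stalk x := stalkLin (H6DefoTriv.inc D) x
  have hp : Function.Surjective p := D.surj x
  have hi : Function.Injective i := (mono_iff_stalk _).1 (H6DefoTriv.mono_inc D) x
  have hex : Function.Exact i p := fun v => by
    constructor
    · intro hv
      obtain ⟨w, hw⟩ := H6DefoTriv.exists_of_π_eq_zero D x v hv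
      refine ⟨p w, ?_⟩
      show stalkLin (H6DefoTriv.inc D) x (stalkLin D.π x w) = v
      rw [← LinearMap.comp_apply, ← stalkLin_comp, H6DefoTriv.π_inc, hw]
    · rintro ⟨w, rfl⟩
      show stalkLin D.π x (stalkLin (H6DefoTriv.inc D) x w) = 0
      rw [← LinearMap.comp_apply, ← stalkLin_comp, H6DefoTriv.inc_π, DevLib.stalkLin_zero, LinearMap.zero_apply]
  obtain ⟨s, hs⟩ := Module.projective_lifting_property p LinearMap.id hp
  obtain ⟨r, hr⟩ : ∃ r : D.sheaf.presheaf.stalk x →ₗ[R] E.presheaf.stalk x, r ∘ₗ i = LinearMap.id :=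
    ((Function.Exact.split_tfae hex hi hp).out 0 1 :
      (∃ l, p ∘ₗ l = LinearMap.id) ↔ (∃ l, l ∘ₗ i = LinearMap.id)).1 ⟨s, hs⟩
  intro a b hab
  obtain ⟨a, rfl⟩ := (stalkTensor x E Ω).surjective a
  obtain ⟨b, rfl⟩ := (stalkTensor x E Ω).surjective b
  have hab' := (stalkTensor_natural_left x (N := Ω) (H6DefoTriv.inc D) a).symm.trans
    (hab.trans (stalkTensor_natural_left x (N := Ω) (H6DefoTriv.inc D) b))
  have h : LinearMap.rTensor (Ω.presheaf.stalk x) r ∘ₗ LinearMap.rTensor (Ω.presheaf.stalk x) i = LinearMap.id := by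
    rw [← LinearMap.rTensor_comp, hr, LinearMap.rTensor_id]
  refine congrArg _ ?_
  have h2 := congrArg (LinearMap.rTensor (Ω.presheaf.stalk x) r) ((stalkTensor x D.sheaf Ω).injective hab')
  rw [← LinearMap.comp_apply, ← LinearMap.comp_apply, h] at h2
  exact h2

theorem exact_tensor : (ShortComplex.mk (KoszTw.tensorMap (H6DefoTriv.inc D) (𝟙 Ω)) (KoszTw.tensorMap D.π (𝟙 Ω))
    (by rw [← tm_comp, H6DefoTriv.inc_π, tm_zero])).Exact := by
  let F := DCoh.tensorRightMod Ω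
  have h : ((H6DefoTriv.seq D).map F).Exact := by
    haveI : PreservesColimitsOfSize.{0, 0} F := preservesColimitsOfSize_shrink _
    exact (H6DefoTriv.seq_exact D).map_of_epi_of_preservesCokernel F (H6DefoTriv.epi_π D) inferInstance
  let S₂ : ShortComplex X.Modules := ShortComplex.mk (KoszTw.tensorMap (H6DefoTriv.inc D) (𝟙 Ω))
    (KoszTw.tensorMap D.π (𝟙 Ω)) (by rw [← tm_comp, H6DefoTriv.inc_π, tm_zero])
  refine (ShortComplex.exact_iff_of_iso (S₁ := (H6DefoTriv.seq D).map F) (S₂ := S₂)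
    (ShortComplex.isoMk (Iso.refl _) (Iso.refl _) (Iso.refl _) ?_ ?_)).1 h
  · exact (Category.id_comp _).trans ((KoszTw.tensorRightMod_map (H6DefoTriv.inc D) Ω).symm.trans
      (Category.comp_id _).symm)
  · exact (Category.id_comp _).trans ((KoszTw.tensorRightMod_map D.π Ω).symm.trans (Category.comp_id _).symm)

theorem exists_lift (hE : FlatMod.IsFinLocFree E) {M : X.Modules} (ψ : M ⟶ CohB1.tensorMod D.sheaf Ω)
    (h : ψ ≫ KoszTw.tensorMap D.π (𝟙 Ω) = 0) :
    ∃ φ : M ⟶ CohB1.tensorMod E Ω, φ ≫ KoszTw.tensorMap (H6DefoTriv.inc D) (𝟙 Ω) = ψ := by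
  haveI := mono_tensor_inc D Ω hE
  exact ⟨(exact_tensor D Ω).lift ψ h, (exact_tensor D Ω).lift_f ψ h⟩

theorem exists_desc {N : X.Modules} (ψ : D.sheaf ⟶ N) (h : H6DefoTriv.inc D ≫ ψ = 0) :
    ∃ φ : E ⟶ N, D.π ≫ φ = ψ := by
  haveI : Epi (H6DefoTriv.seq D).g := H6DefoTriv.epi_π D
  exact ⟨(H6DefoTriv.seq_exact D).desc ψ h, (H6DefoTriv.seq_exact D).g_desc ψ h⟩

theorem exists_factor_end (f : D.sheaf ⟶ D.sheaf) (h1 : f ≫ D.π = 0)
    (h2 : f ≫ H6DefoTriv.eps D = H6DefoTriv.eps D ≫ f) :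
    ∃ S : E ⟶ E, f = D.π ≫ S ≫ H6DefoTriv.inc D := by
  have h3 : H6DefoTriv.inc D ≫ f = 0 := by
    rw [← cancel_epi D.π, ← Category.assoc, H6DefoTriv.π_inc, ← h2, ← H6DefoTriv.π_inc, ← Category.assoc, h1,
      zero_comp, comp_zero]
  obtain ⟨g, hg⟩ := exists_desc D f h3
  have h4 : g ≫ D.π = 0 := by
    rw [← cancel_epi D.π, ← Category.assoc, hg, h1, comp_zero]
  haveI := H6DefoTriv.mono_inc D
  haveI : Mono (H6DefoTriv.seq D).f := H6DefoTriv.mono_inc D
  refine ⟨(H6DefoTriv.seq_exact D).lift g h4, ?_⟩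
  rw [show (H6DefoTriv.seq_exact D).lift g h4 ≫ H6DefoTriv.inc D = g from
    (H6DefoTriv.seq_exact D).lift_f g h4, hg]

end Groth.Agent.DefoConnLib
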