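import Groth.Agent.DefoConnLib.Basic

/-!
# Connections on a first-order deformation

Differences of two deformations of a connection, and their behaviour under automorphisms of the deformation.
-/

set_option autoImplicit false
set_option backward.isDefEq.respectTransparency false
set_option linter.style.haveILetI false

universe u

open CategoryTheory CategoryTheory.Limits AlgebraicGeometry TopologicalSpace Opposite
open Groth.Agent Groth.Agent.PullbackMod Groth.Agent.DCohLib

noncomputable section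

namespace Groth.Agent.DefoConnLib

variable {k : Type u} [Field k] {X : Scheme.{u}} [X.Over (Spec (CommRingCat.of k))] {E Ω' : X.Modules}
  {δ : OmegaSh.Der (X ↘ Spec (CommRingCat.of k)) Ω'}
  {nabla : Coh.toAb E ⟶ Coh.toAb (CohB1.tensorMod E Ω')}
  {D : DefoSh.Defo E (ArtFun.Art.dual k k)}

local notation "T" => SheafOfModules.toSheaf (Scheme.ringCatSheaf X)

theorem secApp_map' {M N : X.Modules} (φ : M ⟶ N) (U : X.Opens) (e : M.val.obj (op U)) :
    ConnSh.secApp ((T).map φ) U e = φ.app U e := rfl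

theorem eps_horizontal (c : DefoSh.DefoConn δ nabla D) :
    ConnSh.IsHorizontal c.conn c.conn (H6DefoTriv.eps D) := c.act_horizontal _

theorem π_sec (c : DefoSh.DefoConn δ nabla D) (U : X.Opens) (e : D.sheaf.val.obj (op U)) :
    (KoszTw.tensorMap D.π (𝟙 Ω')).app U (ConnSh.secApp c.conn U e) = ConnSh.secApp nabla U (D.π.app U e) :=
  (c.π_horizontal U e).symm

/-- The linear correction attached to `φ`. -/
abbrev corr (D : DefoSh.Defo E (ArtFun.Art.dual k k)) (φ : E ⟶ CohB1.tensorMod E Ω') :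
    D.sheaf ⟶ CohB1.tensorMod D.sheaf Ω' :=
  D.π ≫ φ ≫ KoszTw.tensorMap (H6DefoTriv.inc D) (𝟙 Ω')

theorem corr_π (φ : E ⟶ CohB1.tensorMod E Ω') : corr D φ ≫ KoszTw.tensorMap D.π (𝟙 Ω') = 0 := by
  simp only [corr, Category.assoc, ← tm_comp, H6DefoTriv.inc_π, tm_zero, comp_zero]

theorem corr_eps (φ : E ⟶ CohB1.tensorMod E Ω') : corr D φ ≫ KoszTw.tensorMap (H6DefoTriv.eps D) (𝟙 Ω') = 0 := by
  simp only [corr, Category.assoc, ← tm_comp, H6DefoTriv.inc_eps, tm_zero, comp_zero]

theorem eps_corr (φ : E ⟶ CohB1.tensorMod E Ω') : H6DefoTriv.eps D ≫ corr D φ = 0 := by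
  simp only [corr, ← Category.assoc, H6DefoTriv.eps_π, zero_comp]

/-- A deformation of the connection moved by a linear correction. -/
def shift (c : DefoSh.DefoConn δ nabla D) (φ : E ⟶ CohB1.tensorMod E Ω') : DefoSh.DefoConn δ nabla D where
  conn := c.conn + (T).map (corr D φ)
  isConn := fun U t e => by
    rw [S17439.secApp_add, S17439.secApp_add, secApp_map', secApp_map', c.isConn U t e]
    erw [Scheme.Modules.Hom.app_smul, smul_add]
    exact add_right_comm _ _ _
  π_horizontal := fun U e => by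
    rw [S17439.secApp_add, map_add, secApp_map', π_sec]
    have h : (KoszTw.tensorMap D.π (𝟙 Ω')).app U ((corr D φ).app U e) = 0 :=
      congrArg (fun f : D.sheaf ⟶ _ => f.app U e) (corr_π (D := D) φ)
    erw [h, add_zero]
  act_horizontal := fun a => by
    let c' := c.conn + (T).map (corr D φ)
    have hc' : ConnSh.IsConn δ D.sheaf c' := fun U t e => by
      rw [S17439.secApp_add, S17439.secApp_add, secApp_map', secApp_map', c.isConn U t e]
      erw [Scheme.Modules.Hom.app_smul, smul_add]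
      exact add_right_comm _ _ _
    have he : ConnSh.IsHorizontal c' c' (H6DefoTriv.eps D) := fun U e => by
      rw [S17439.secApp_add, S17439.secApp_add, map_add, secApp_map', secApp_map', eps_horizontal c U e]
      have h1 : (corr D φ).app U ((H6DefoTriv.eps D).app U e) = 0 :=
        congrArg (fun f : D.sheaf ⟶ _ => f.app U e) (eps_corr (D := D) φ)
      have h2 : (KoszTw.tensorMap (H6DefoTriv.eps D) (𝟙 Ω')).app U ((corr D φ).app U e) = 0 :=
        congrArg (fun f : D.sheaf ⟶ _ => f.app U e) (corr_eps (D := D) φ)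
      erw [h1, h2]
    rw [H6DefoTriv.act_eq]
    exact S17439.isHorizontal_add (S17439.isHorizontal_smul δ hc' (DefoSh.isHorizontal_id c') _)
      (S17439.isHorizontal_smul δ hc' he _)

theorem shift_conn (c : DefoSh.DefoConn δ nabla D) (φ : E ⟶ CohB1.tensorMod E Ω') :
    (shift c φ).conn = c.conn + (T).map (corr D φ) := rfl

theorem defoConn_ext {c c' : DefoSh.DefoConn δ nabla D} (h : c.conn = c'.conn) : c = c' := by
  cases c; cases c'; simpa using h

theorem exists_shift (hE : FlatMod.IsFinLocFree E) (c c' : DefoSh.DefoConn δ nabla D) :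
    ∃ φ : E ⟶ CohB1.tensorMod E Ω', shift c φ = c' := by
  let d := c'.conn - c.conn
  have hd : ∀ (U : X.Opens) (e : D.sheaf.val.obj (op U)),
      ConnSh.secApp d U e = ConnSh.secApp c'.conn U e - ConnSh.secApp c.conn U e := fun U e => rfl
  let L := ofLin d fun U r e => by
    rw [hd, hd, c'.isConn U r e, c.isConn U r e, smul_sub]
    exact add_sub_add_right_eq_sub _ _ _
  have hL : ∀ (U : X.Opens) (e : D.sheaf.val.obj (op U)),
      L.app U e = ConnSh.secApp c'.conn U e - ConnSh.secApp c.conn U e := fun U e => rfl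
  have hLπ : L ≫ KoszTw.tensorMap D.π (𝟙 Ω') = 0 := ext_sec _ _ fun U e => by
    show (KoszTw.tensorMap D.π (𝟙 Ω')).app U (L.app U e) = 0
    rw [hL, map_sub, π_sec, π_sec, sub_self]
  have hεL : H6DefoTriv.eps D ≫ L = L ≫ KoszTw.tensorMap (H6DefoTriv.eps D) (𝟙 Ω') := ext_sec _ _ fun U e => by
    show L.app U ((H6DefoTriv.eps D).app U e) = (KoszTw.tensorMap (H6DefoTriv.eps D) (𝟙 Ω')).app U (L.app U e)
    rw [hL, hL, map_sub, eps_horizontal c U e, eps_horizontal c' U e]
  have hιL : H6DefoTriv.inc D ≫ L = 0 := by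
    rw [← cancel_epi D.π, ← Category.assoc, H6DefoTriv.π_inc, hεL, ← H6DefoTriv.π_inc, tm_comp,
      ← Category.assoc, hLπ, zero_comp, comp_zero]
  obtain ⟨g, hg⟩ := exists_desc D L hιL
  have hgπ : g ≫ KoszTw.tensorMap D.π (𝟙 Ω') = 0 := by
    rw [← cancel_epi D.π, ← Category.assoc, hg, hLπ, comp_zero]
  obtain ⟨φ, hφ⟩ := exists_lift D Ω' hE g hgπ
  refine ⟨φ, defoConn_ext ?_⟩
  rw [shift_conn, show corr D φ = L by simp only [corr, hφ, hg], map_ofLin]
  exact add_sub_cancel c.conn c'.conn

theorem corr_injective (hE : FlatMod.IsFinLocFree E) :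
    Function.Injective (corr D : (E ⟶ CohB1.tensorMod E Ω') → _) := fun φ ψ h => by
  haveI := mono_tensor_inc D Ω' hE
  exact (cancel_mono _).1 ((cancel_epi D.π).1 h)

/-- A deformed connection on the copy `εE` is `∇`. -/
theorem conn_inc (c : DefoSh.DefoConn δ nabla D) :
    (T).map (H6DefoTriv.inc D) ≫ c.conn = nabla ≫ (T).map (KoszTw.tensorMap (H6DefoTriv.inc D) (𝟙 Ω')) := by
  haveI : Epi ((T).map D.π) := (QCohLib.toAbF X).map_epi D.π
  rw [← cancel_epi ((T).map D.π)]
  refine toAb_ext _ _ fun U e => ?_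
  show ConnSh.secApp c.conn U ((H6DefoTriv.inc D).app U (D.π.app U e)) =
    (KoszTw.tensorMap (H6DefoTriv.inc D) (𝟙 Ω')).app U (ConnSh.secApp nabla U (D.π.app U e))
  rw [S17439.app_comp, H6DefoTriv.π_inc, eps_horizontal c U e, ← π_sec c U e, S17439.app_comp, ← tm_comp,
    H6DefoTriv.π_inc]

theorem transport_iff (c c' : DefoSh.DefoConn δ nabla D) :
    DefoSh.DefoConn.Transport c c' ↔ ∃ S : E ⟶ E,
      c'.conn - c.conn = (T).map D.π ≫
        (nabla ≫ (T).map (KoszTw.tensorMap S (𝟙 Ω')) - (T).map S ≫ nabla) ≫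
          (T).map (KoszTw.tensorMap (H6DefoTriv.inc D) (𝟙 Ω')) := by
  let tι := KoszTw.tensorMap (H6DefoTriv.inc D) (𝟙 Ω')
  let F : (E ⟶ E) → (D.sheaf ⟶ D.sheaf) := fun S => D.π ≫ S ≫ H6DefoTriv.inc D
  have hrhs : ∀ (S : E ⟶ E) (U : X.Opens) (e : D.sheaf.val.obj (op U)),
      ConnSh.secApp ((T).map D.π ≫
        (nabla ≫ (T).map (KoszTw.tensorMap S (𝟙 Ω')) - (T).map S ≫ nabla) ≫ (T).map tι) U e =
      (KoszTw.tensorMap (F S) (𝟙 Ω')).app U (ConnSh.secApp c.conn U e) -
        (show Γ(CohB1.tensorMod D.sheaf Ω', U) from ConnSh.secApp c'.conn U ((F S).app U e)) := fun S U e => by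
    show tι.app U ((KoszTw.tensorMap S (𝟙 Ω')).app U (ConnSh.secApp nabla U (D.π.app U e)) -
      (show Γ(CohB1.tensorMod E Ω', U) from ConnSh.secApp nabla U (S.app U (D.π.app U e)))) = _
    rw [map_sub, ← π_sec c U e, S17439.app_comp, S17439.app_comp, ← tm_comp, ← tm_comp]
    exact congrArg (fun z => (KoszTw.tensorMap (F S) (𝟙 Ω')).app U (ConnSh.secApp c.conn U e) - z)
      (congrArg (fun f => ConnSh.secApp f U (S.app U (D.π.app U e))) (conn_inc c')).symm
  constructor
  · rintro ⟨e, he⟩
    obtain ⟨S, hS⟩ := exists_factor_end D (e.iso.hom - 𝟙 D.sheaf)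
      (by rw [Preadditive.sub_comp, e.hom_π, Category.id_comp, sub_self])
      (by
        rw [Preadditive.sub_comp, Preadditive.comp_sub, Category.id_comp, Category.comp_id]
        exact congrArg (fun z => z - H6DefoTriv.eps D) (e.act_hom _).symm)
    have heq : e.iso.hom = 𝟙 D.sheaf + F S := (sub_eq_iff_eq_add'.1 hS)
    refine ⟨S, toAb_ext _ _ fun U x => ?_⟩
    refine Eq.trans ?_ (hrhs S U x).symm
    show ConnSh.secApp c'.conn U x - ConnSh.secApp c.conn U x = _
    have h := he U x
    rw [heq, tm_add, KoszTw.tensorMap_id] at h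
    replace h : ConnSh.secApp c'.conn U ((show Γ(D.sheaf, U) from x) + (F S).app U x) = (show Γ(CohB1.tensorMod D.sheaf Ω', U) from ConnSh.secApp c.conn U x) +
        (KoszTw.tensorMap (F S) (𝟙 Ω')).app U (ConnSh.secApp c.conn U x) := h
    rw [map_add] at h
    rw [sub_eq_sub_iff_add_eq_add, h, add_comm]
  · rintro ⟨S, hS⟩
    have hF : ∀ a b : E ⟶ E, F a ≫ F b = 0 := fun a b => by
      simp only [F, Category.assoc, reassoc_of% (H6DefoTriv.inc_π D), zero_comp, comp_zero]
    let e : D.sheaf ≅ D.sheaf :=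
      { hom := 𝟙 D.sheaf + F S
        inv := 𝟙 D.sheaf - F S
        hom_inv_id := by
          simp only [Preadditive.add_comp, Preadditive.comp_sub, Category.id_comp, Category.comp_id, hF]
          abel
        inv_hom_id := by
          simp only [Preadditive.sub_comp, Preadditive.comp_add, Category.id_comp, Category.comp_id, hF]
          abel }
    have he1 : H6DefoTriv.eps D ≫ F S = 0 := by
      simp only [F, reassoc_of% (H6DefoTriv.eps_π D), zero_comp]
    have he2 : F S ≫ H6DefoTriv.eps D = 0 := by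
      simp only [F, Category.assoc, H6DefoTriv.inc_eps, comp_zero]
    refine ⟨⟨e, fun a => ?_, ?_⟩, fun U x => ?_⟩
    · show _ ≫ (𝟙 D.sheaf + F S) = (𝟙 D.sheaf + F S) ≫ _
      rw [H6DefoTriv.act_eq]
      simp only [Preadditive.add_comp, Preadditive.comp_add, Linear.smul_comp, Linear.comp_smul,
        Category.id_comp, Category.comp_id, he1, he2, smul_zero, add_zero, smul_add]
      abel
    · show (𝟙 D.sheaf + F S) ≫ D.π = D.π
      simp only [F, Preadditive.add_comp, Category.assoc, Category.id_comp, H6DefoTriv.inc_π, comp_zero, add_zero]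
    · show ConnSh.secApp c'.conn U ((show Γ(D.sheaf, U) from x) + (F S).app U x) =
        (KoszTw.tensorMap (𝟙 D.sheaf + F S) (𝟙 Ω')).app U (ConnSh.secApp c.conn U x)
      rw [tm_add, KoszTw.tensorMap_id, map_add]
      show _ = (show Γ(CohB1.tensorMod D.sheaf Ω', U) from ConnSh.secApp c.conn U x) + (KoszTw.tensorMap (F S) (𝟙 Ω')).app U (ConnSh.secApp c.conn U x)
      have h := (congrArg (fun f => ConnSh.secApp f U x) hS).trans (hrhs S U x)
      replace h : ConnSh.secApp c'.conn U x - ConnSh.secApp c.conn U x = _ := h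
      rw [sub_eq_sub_iff_add_eq_add] at h
      rw [h, add_comm]

end Groth.Agent.DefoConnLib
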